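import Mathlib.RingTheory.DiscreteValuationRing.Basic
import Mathlib.RingTheory.Artinian.Module
import Mathlib.LinearAlgebra.Dimension.StrongRankCondition
import Mathlib.LinearAlgebra.FreeModule.PID
import Mathlib.LinearAlgebra.Dimension.Free

/-!
# Algebra for reductions of lattices over a discrete valuation ring
-/

set_option autoImplicit false

universe u v

namespace Groth.Agent.FlatMor.GenTrunc

variable {R : Type u} [CommRing R] [IsDomain R] [IsDiscreteValuationRing R] {ϖ : R}

theorem isArtinian_quot (hϖ : Irreducible ϖ) (N : ℕ) :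
    IsArtinian R (R ⧸ Ideal.span ({ϖ ^ N} : Set R)) := by
  let I := Ideal.span ({ϖ ^ N} : Set R)
  have hI : I ≠ ⊥ := by simp [I, hϖ.ne_zero]
  have key : ∀ S : Submodule R (R ⧸ I), ∃ j : Fin (N + 1),
      Submodule.comap (Submodule.mkQ I) S = Ideal.span {ϖ ^ (j : ℕ)} := fun S => by
    have hle : I ≤ Submodule.comap (Submodule.mkQ I) S := Submodule.le_comap_mkQ I S
    have hne : Submodule.comap (Submodule.mkQ I) S ≠ ⊥ := fun h => hI (le_bot_iff.1 (h ▸ hle))
    obtain ⟨j, hj⟩ := IsDiscreteValuationRing.ideal_eq_span_pow_irreducible hne hϖ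
    have hjN : j ≤ N := by
      rw [hj, Ideal.span_le, Set.singleton_subset_iff, SetLike.mem_coe,
        Ideal.mem_span_singleton] at hle
      exact (pow_dvd_pow_iff hϖ.ne_zero hϖ.not_isUnit).1 hle
    exact ⟨⟨j, Nat.lt_succ_of_le hjN⟩, hj⟩
  choose g hg using key
  have : Function.Injective g := fun S T h =>
    Submodule.comap_injective_of_surjective (Submodule.mkQ_surjective I) (by rw [hg, hg, h])
  have : Finite (Submodule R (R ⧸ I)) := Finite.of_injective g this
  exact ⟨Finite.to_wellFoundedLT.wf⟩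

/-- An injective map between reductions of lattices of the same rank is surjective. -/
theorem surjective_of_twin (hϖ : Irreducible ϖ) (N : ℕ)
    {K₁ K₂ P₁ P₂ : Type v} [AddCommGroup K₁] [AddCommGroup K₂] [AddCommGroup P₁] [AddCommGroup P₂]
    [Module R K₁] [Module R K₂] [Module R P₁] [Module R P₂]
    [Module.Free R K₁] [Module.Finite R K₁] [Module.Free R K₂] [Module.Finite R K₂]
    (h : Module.finrank R K₁ = Module.finrank R K₂)
    (q₁ : K₁ →ₗ[R] P₁) (hq₁ : Function.Surjective q₁) (hk₁ : ∀ k, q₁ k = 0 ↔ ∃ k', ϖ ^ N • k' = k)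
    (q₂ : K₂ →ₗ[R] P₂) (hq₂ : Function.Surjective q₂) (hk₂ : ∀ k, q₂ k = 0 ↔ ∃ k', ϖ ^ N • k' = k)
    (δ : P₁ →ₗ[R] P₂) (hδ : Function.Injective δ) : Function.Surjective δ := by
  let e := LinearEquiv.ofFinrankEq K₂ K₁ h.symm
  have hker : LinearMap.ker q₂ = LinearMap.ker (q₁.comp e.toLinearMap) := by
    ext k
    simp only [LinearMap.mem_ker, LinearMap.comp_apply, LinearEquiv.coe_coe, hk₁, hk₂]
    exact ⟨fun ⟨k', hk'⟩ => ⟨e k', by rw [← map_smul, hk']⟩,
      fun ⟨k', hk'⟩ => ⟨e.symm k', by rw [← map_smul, hk', e.symm_apply_apply]⟩⟩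
  have hs : Function.Surjective (q₁.comp e.toLinearMap) := hq₁.comp e.surjective
  let ε : P₂ ≃ₗ[R] P₁ := (q₂.quotKerEquivOfSurjective hq₂).symm ≪≫ₗ
    Submodule.quotEquivOfEq _ _ hker ≪≫ₗ (q₁.comp e.toLinearMap).quotKerEquivOfSurjective hs
  have : IsArtinian R P₂ := by
    have := isArtinian_quot hϖ N
    let b := Module.finBasis R K₂
    let I := Ideal.span ({ϖ ^ N} : Set R)
    let τ : (Fin (Module.finrank R K₂) → R ⧸ I) →ₗ[R] P₂ :=
      ∑ i, (I.liftQ (LinearMap.toSpanSingleton R P₂ (q₂ (b i))) (by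
        rw [Ideal.span_le, Set.singleton_subset_iff, SetLike.mem_coe, LinearMap.mem_ker,
          LinearMap.toSpanSingleton_apply, ← map_smul]
        exact (hk₂ _).2 ⟨b i, rfl⟩)).comp (LinearMap.proj i)
    refine isArtinian_of_surjective _ τ fun p => ?_
    obtain ⟨k, rfl⟩ := hq₂ p
    refine ⟨fun i => Submodule.Quotient.mk (b.repr k i), ?_⟩
    simp only [τ, LinearMap.sum_apply, LinearMap.comp_apply, LinearMap.proj_apply,
      Submodule.liftQ_apply, LinearMap.toSpanSingleton_apply, ← map_smul, ← map_sum, b.sum_repr]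
  have := IsArtinian.surjective_of_injective_endomorphism (δ.comp ε.toLinearMap) (hδ.comp ε.injective)
  exact Function.Surjective.of_comp this

/-- Ranks of lattices, one full in the other after inverting the uniformiser. -/
theorem finrank_le_of_full (hϖ : Irreducible ϖ) {K₁ K₂ W : Type v} [AddCommGroup K₁] [AddCommGroup K₂]
    [AddCommGroup W] [Module R K₁] [Module R K₂] [Module R W]
    [Module.Free R K₂] [Module.Finite R K₂] [Module.Finite R K₁]
    (i₁ : K₁ →ₗ[R] W) (i₂ : K₂ →ₗ[R] W) (h₂ : Function.Injective i₂)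
    (htf : ∀ (j : ℕ) (w : W), ϖ ^ j • w = 0 → w = 0)
    (hfull : ∀ k₂, ∃ (j : ℕ) (k₁ : K₁), i₁ k₁ = ϖ ^ j • i₂ k₂) :
    Module.finrank R K₂ ≤ Module.finrank R K₁ := by
  let b := Module.finBasis R K₂
  choose j k hk using fun i => hfull (b i)
  obtain ⟨J, hJ⟩ := Finite.exists_le j
  let L : K₂ →ₗ[R] K₁ := b.constr ℕ fun i => ϖ ^ (J - j i) • k i
  have hL : i₁.comp L = ϖ ^ J • i₂ := b.ext fun i => by
    simp only [LinearMap.comp_apply, L, b.constr_basis, map_smul, hk, LinearMap.smul_apply, smul_smul,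
      ← pow_add, Nat.sub_add_cancel (hJ i)]
  refine LinearMap.finrank_le_finrank_of_injective (f := L) ((injective_iff_map_eq_zero L).2 fun x hx => ?_)
  apply h₂
  rw [map_zero]
  refine htf J _ ?_
  rw [← LinearMap.smul_apply, ← hL, LinearMap.comp_apply, hx, map_zero]

end Groth.Agent.FlatMor.GenTrunc
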