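import Groth.Agent.FlatMor.GenTrunc.Sections
import Groth.Agent.FlatMor.GenTrunc.Algebra
import Groth.Agent.FormalFun.SecFinite

/-!
# Lifting a truncated isomorphism to global sections
-/

set_option autoImplicit false
set_option linter.style.haveILetI false
set_option linter.unusedSectionVars false

universe u

open CategoryTheory CategoryTheory.Limits AlgebraicGeometry Opposite TopologicalSpace
open Groth.Agent Groth.Agent.QCoh

noncomputable section

namespace Groth.Agent.FlatMor.GenTrunc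

variable {R : Type u} [CommRing R] (ϖ : R) {X : Scheme.{u}} [X.Over (Spec (CommRingCat.of R))]

/-- Sections are modules over the base. -/
@[reducible] def modR (M : X.Modules) (U : X.Opens) : Module R Γ(M, U) :=
  Module.compHom Γ(M, U) (FormalFun.gA (A := R) U)

attribute [local instance] modR

theorem modR_smul (M : X.Modules) (U : X.Opens) (a : R) (x : Γ(M, U)) :
    a • x = FormalFun.gA (A := R) U a • x := rfl

theorem modR_pow_smul (M : X.Modules) (U : X.Opens) (n : ℕ) (x : Γ(M, U)) :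
    ϖ ^ n • x = c ϖ U ^ n • x := by rw [modR_smul, map_pow]

/-- A morphism on sections, as a linear map over the base. -/
def appLin {M N : X.Modules} (φ : M ⟶ N) (U : X.Opens) : Γ(M, U) →ₗ[R] Γ(N, U) where
  toFun x := φ.app U x
  map_add' := map_add _
  map_smul' a x := Scheme.Modules.Hom.app_smul φ (FormalFun.gA (A := R) U a) x

@[simp] theorem appLin_apply {M N : X.Modules} (φ : M ⟶ N) (U : X.Opens) (x : Γ(M, U)) :
    appLin (R := R) φ U x = φ.app U x := rfl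

/-- Restriction, as a linear map over the base. -/
def resLin (M : X.Modules) {U V : X.Opens} (h : V ≤ U) : Γ(M, U) →ₗ[R] Γ(M, V) where
  toFun x := res M h x
  map_add' := map_add _
  map_smul' a x := by
    rw [modR_smul, res_smul, rres_gA]
    rfl

@[simp] theorem resLin_apply (M : X.Modules) {U V : X.Opens} (h : V ≤ U) (x : Γ(M, U)) :
    resLin (R := R) M h x = res M h x := rfl

theorem finite_top [IsNoetherianRing R] [IsProper (X ↘ Spec (CommRingCat.of R))] (M : X.Modules)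
    (hM : Coh.IsCoh M) : Module.Finite R Γ(M, ⊤) := by
  haveI : Module.Finite R (Coh.HH X M 0) := FormalFun.finiteCoh_of_proper R X M hM 0
  let l : Coh.HH X M 0 →ₗ[R] Γ(M, ⊤) :=
    { toFun := FormalFun.Γ0 M
      map_add' := map_add _
      map_smul' := fun a x => by
        rw [← FormalFun.hMap_smulMod, ← FormalFun.H_map_eq, FormalFun.Γ0_map]
        rfl }
  exact Module.Finite.of_surjective l (FormalFun.Γ0 M).surjective

theorem π_natural_zero {m : ℕ} {M E : X.Modules} (φ : M ⟶ Formal.modPow (idl ϖ) m E) {b : R}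
    (hb : b ∈ idl ϖ ^ m) : Formal.smulMod R M b ≫ φ = 0 := by
  have h0 : Formal.smulMod R (Formal.modPow (idl ϖ) m E) b = 0 := by
    rw [← cancel_epi (π ϖ m E), ← FormalFun.smulMod_natural, comp_zero]
    exact FormalFun.smulMod_comp_π E hb
  rw [FormalFun.smulMod_natural, h0, comp_zero]

/-- The morphism induced on a lower truncation. -/
def down {m n : ℕ} (h : m ≤ n) {F E : X.Modules}
    (β : Formal.modPow (idl ϖ) n F ⟶ Formal.modPow (idl ϖ) n E) :
    Formal.modPow (idl ϖ) m F ⟶ Formal.modPow (idl ϖ) m E :=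
  cokernel.desc _ (π ϖ n F ≫ β ≫ tr ϖ h E) (by
    apply Sigma.hom_ext
    intro b
    rw [comp_zero, Formal.smulFamily, Sigma.ι_desc_assoc]
    exact π_natural_zero ϖ _ b.2)

theorem π_down {m n : ℕ} (h : m ≤ n) {F E : X.Modules}
    (β : Formal.modPow (idl ϖ) n F ⟶ Formal.modPow (idl ϖ) n E) :
    π ϖ m F ≫ down ϖ h β = π ϖ n F ≫ β ≫ tr ϖ h E :=
  cokernel.π_desc _ _ _

theorem tr_down {m n : ℕ} (h : m ≤ n) {F E : X.Modules}
    (β : Formal.modPow (idl ϖ) n F ⟶ Formal.modPow (idl ϖ) n E) :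
    tr ϖ h F ≫ down ϖ h β = β ≫ tr ϖ h E := by
  rw [← cancel_epi (π ϖ n F), reassoc_of% (π_tr ϖ h F), π_down]

theorem down_id {m n : ℕ} (h : m ≤ n) (F : X.Modules) :
    down ϖ h (𝟙 (Formal.modPow (idl ϖ) n F)) = 𝟙 _ := by
  rw [← cancel_epi (π ϖ m F), π_down, Category.id_comp, π_tr, Category.comp_id]

theorem down_comp {m n : ℕ} (h : m ≤ n) {F E G : X.Modules}
    (β : Formal.modPow (idl ϖ) n F ⟶ Formal.modPow (idl ϖ) n E)
    (γ : Formal.modPow (idl ϖ) n E ⟶ Formal.modPow (idl ϖ) n G) :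
    down ϖ h β ≫ down ϖ h γ = down ϖ h (β ≫ γ) := by
  rw [← cancel_epi (π ϖ m F), reassoc_of% (π_down ϖ h β), tr_down, π_down, Category.assoc]

theorem tr_tr {m l n : ℕ} (h : m ≤ l) (h' : l ≤ n) (M : X.Modules) :
    tr ϖ h' M ≫ tr ϖ h M = tr ϖ (h.trans h') M := by
  rw [← cancel_epi (π ϖ n M), reassoc_of% (π_tr ϖ h' M), π_tr, π_tr]

theorem down_down {m l n : ℕ} (h : m ≤ l) (h' : l ≤ n) {F E : X.Modules}
    (β : Formal.modPow (idl ϖ) n F ⟶ Formal.modPow (idl ϖ) n E) :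
    down ϖ h (down ϖ h' β) = down ϖ (h.trans h') β := by
  rw [← cancel_epi (π ϖ m F), π_down, reassoc_of% (π_down ϖ h' β), tr_tr, π_down]

variable [IsDomain R] [IsDiscreteValuationRing R]

/-- The sections divisible to order `N`. -/
abbrev K (N : ℕ) (M : X.Modules) : Submodule R Γ(M, ⊤) :=
  LinearMap.ker (appLin (R := R) (π ϖ N M) ⊤)

theorem mem_K {N : ℕ} {M : X.Modules} {x : Γ(M, ⊤)} : x ∈ K ϖ N M ↔ (π ϖ N M).app ⊤ x = 0 :=
  Iff.rfl

variable {ϖ}

theorem K_noTors {N : ℕ} {M : X.Modules} [M.IsQuasicoherent] (hTB : TB ϖ N M) (j : ℕ) (x : K ϖ N M)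
    (h : ϖ ^ j • (x : Γ(M, ⊤)) = 0) : x = 0 :=
  Subtype.ext (eq_zero_of_π hTB x.1 x.2 j (by rwa [modR_pow_smul] at h))

theorem K_free (hϖ : Irreducible ϖ) {N : ℕ} {M : X.Modules} [M.IsQuasicoherent] (hTB : TB ϖ N M)
    [Module.Finite R Γ(M, ⊤)] : Module.Finite R (K ϖ N M) ∧ Module.Free R (K ϖ N M) := by
  haveI : IsNoetherian R Γ(M, ⊤) := isNoetherian_of_isNoetherianRing_of_finite R _
  haveI hf : Module.Finite R (K ϖ N M) := inferInstance
  refine ⟨hf, ?_⟩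
  haveI : Module.IsTorsionFree R (K ϖ N M) := by
    refine Module.isTorsionFree_iff_smul_eq_zero.2 fun a x h => ?_
    by_cases ha : a = 0
    · exact Or.inl ha
    refine Or.inr ?_
    obtain ⟨j, u, rfl⟩ := IsDiscreteValuationRing.eq_unit_mul_pow_irreducible ha hϖ
    refine K_noTors hTB j x ?_
    have h' := congrArg Subtype.val h
    rwa [Submodule.coe_smul, mul_smul, Submodule.coe_zero, u.isUnit.smul_eq_zero] at h'
  exact Module.free_of_finite_type_torsion_free'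

theorem finrank_K_le (hϖ : Irreducible ϖ) {N : ℕ} {E F : X.Modules} [E.IsQuasicoherent] [F.IsQuasicoherent]
    [CompactSpace X] [QuasiSeparatedSpace X] (hE : TB ϖ N E) (hF : TB ϖ N F)
    [Module.Finite R Γ(E, ⊤)] [Module.Finite R Γ(F, ⊤)]
    (W : X.Opens) (hW : W = X.basicOpen (c ϖ (⊤ : X.Opens)))
    (ψ : Γ(F, W) →ₗ[R] Γ(E, W)) (hψ : Function.Injective ψ) :
    Module.finrank R (K ϖ N F) ≤ Module.finrank R (K ϖ N E) := by
  subst hW
  obtain ⟨hf, hfr⟩ := K_free hϖ hF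
  obtain ⟨hfE, -⟩ := K_free hϖ hE
  have hle := X.basicOpen_le (c ϖ (⊤ : X.Opens))
  have hu : IsUnit (c ϖ (X.basicOpen (c ϖ (⊤ : X.Opens)))) := by
    rw [show c ϖ (X.basicOpen (c ϖ (⊤ : X.Opens))) = rres hle (c ϖ (⊤ : X.Opens)) from (rres_gA hle ϖ).symm]
    exact RingedSpace.isUnit_res_basicOpen X.toRingedSpace _
  have L : ∀ M : X.Modules, [M.IsQuasicoherent] → IsLocalizingAt M (c ϖ (⊤ : X.Opens)) := fun M _ =>
    QCoh.isLocalizingAt_of_isCompact M (by simpa using isCompact_univ) _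
  refine finrank_le_of_full hϖ ((resLin (R := R) E hle).comp (K ϖ N E).subtype)
    (ψ.comp ((resLin (R := R) F hle).comp (K ϖ N F).subtype)) (hψ.comp ?_)
    (fun j w h => (hu.pow j).smul_eq_zero.1 (by rwa [modR_pow_smul] at h)) fun k => ?_
  · refine (injective_iff_map_eq_zero ((resLin (R := R) F hle).comp (K ϖ N F).subtype)).2 fun x hx => ?_
    obtain ⟨j, hj⟩ := (L F).eq_zero x.1 hx
    exact K_noTors hF j x (by rwa [modR_pow_smul])
  · obtain ⟨j, t, ht⟩ := (L E).surj (ψ (res F hle k.1))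
    refine ⟨N + j, ⟨ϖ ^ N • t, ?_⟩, ?_⟩
    · rw [mem_K, modR_pow_smul]
      exact π_pow_smul ϖ E N t
    · show res E hle (ϖ ^ N • t) = ϖ ^ (N + j) • ψ (res F hle k.1)
      rw [modR_pow_smul, res_c, ht, modR_pow_smul, rres_gA, smul_smul, ← pow_add]

/-- Global sections lifting a truncated isomorphism. -/
theorem exists_sections (hϖ : Irreducible ϖ) {N n : ℕ} (hn : N + N ≤ n) {E F : X.Modules}
    [E.IsQuasicoherent] [F.IsQuasicoherent]
    [(Formal.modPow (idl ϖ) (N + N) E).IsQuasicoherent]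
    (hE : TB ϖ N E) (hF : TB ϖ N F) [Module.Finite R Γ(E, ⊤)] [Module.Finite R Γ(F, ⊤)]
    (β : Formal.modPow (idl ϖ) n F ≅ Formal.modPow (idl ϖ) n E)
    (hc : ∀ y : Γ(Formal.modPow (idl ϖ) n F, ⊤), ∃ a : Γ(F, ⊤),
      (π ϖ (N + N) F).app ⊤ a = (tr ϖ hn F).app ⊤ y)
    (hrank : Module.finrank R (K ϖ N E) = Module.finrank R (K ϖ N F)) (e : Γ(F, ⊤)) :
    ∃ s : Γ(E, ⊤), (π ϖ N E).app ⊤ s =
      (down ϖ (Nat.le_add_left N N |>.trans hn) β.hom).app ⊤ ((π ϖ N F).app ⊤ e) := by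
  have hN : N ≤ N + N := Nat.le_add_left N N
  let qE : K ϖ N E →ₗ[R] _ := ((appLin (R := R) (π ϖ (N + N) E) ⊤).comp (K ϖ N E).subtype).rangeRestrict
  let qF : K ϖ N F →ₗ[R] _ := ((appLin (R := R) (π ϖ (N + N) F) ⊤).comp (K ϖ N F).subtype).rangeRestrict
  let δ : Formal.modPow (idl ϖ) (N + N) E ⟶ Formal.modPow (idl ϖ) (N + N) F := down ϖ hn β.inv
  let δ' : Formal.modPow (idl ϖ) (N + N) F ⟶ Formal.modPow (idl ϖ) (N + N) E := down ϖ hn β.hom
  have hδ : δ ≫ δ' = 𝟙 _ := by rw [down_comp, β.inv_hom_id, down_id]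
  have hδ₂ : δ' ≫ δ = 𝟙 _ := by rw [down_comp, β.hom_inv_id, down_id]
  have hδinj : Function.Injective (δ.app ⊤) := fun x y h => by
    have := congrArg (δ'.app ⊤) h
    rwa [← ConcreteCategory.comp_apply, ← ConcreteCategory.comp_apply, ← Scheme.Modules.Hom.comp_app,
      hδ] at this
  have hmap : ∀ x : K ϖ N E, ∃ a : K ϖ N F,
      δ.app ⊤ ((π ϖ (N + N) E).app ⊤ x.1) = (π ϖ (N + N) F).app ⊤ a.1 := fun x => by
    obtain ⟨a, ha⟩ := hc (β.inv.app ⊤ ((π ϖ n E).app ⊤ x.1))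
    have h1 : δ.app ⊤ ((π ϖ (N + N) E).app ⊤ x.1) = (π ϖ (N + N) F).app ⊤ a := by
      rw [ha]
      simp only [← ConcreteCategory.comp_apply, ← Scheme.Modules.Hom.comp_app, δ, π_down, Category.assoc]
    refine ⟨⟨a, ?_⟩, h1⟩
    rw [mem_K, ← π_tr_app ϖ hN F, ← h1]
    have h2 : δ ≫ tr ϖ hN F = tr ϖ hN E ≫ down ϖ hN δ := (tr_down ϖ hN δ).symm
    rw [← ConcreteCategory.comp_apply, ← Scheme.Modules.Hom.comp_app, h2, Scheme.Modules.Hom.comp_app,
      ConcreteCategory.comp_apply, π_tr_app, (mem_K ϖ).1 x.2, map_zero]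
  have hkE : ∀ k, qE k = 0 ↔ ∃ k', ϖ ^ N • k' = k := fun k => by
    rw [← Subtype.coe_inj]
    constructor
    · intro h
      obtain ⟨z, hz, hzk⟩ := exists_divide hE N k.1 h
      exact ⟨⟨z, hz⟩, Subtype.ext (by rw [Submodule.coe_smul, modR_pow_smul]; exact hzk)⟩
    · rintro ⟨k', rfl⟩
      obtain ⟨z, hz⟩ := k'
      show (π ϖ (N + N) E).app ⊤ (ϖ ^ N • z) = 0
      refine eq_zero_of_locally_eq_zero _ (fun i : {V : X.affineOpens // V.1 ≤ ⊤} => i.2)
        (le_iSup_affine ⊤) _ fun i => ?_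
      obtain ⟨y, hy⟩ := (π_eq_zero_iff ϖ E i.1.2 N _).1 (res_π i.2 hz)
      rw [← app_res, modR_pow_smul, res_c, hy, smul_smul, ← pow_add]
      exact π_pow_smul ϖ E (N + N) y
  have hkF : ∀ k, qF k = 0 ↔ ∃ k', ϖ ^ N • k' = k := fun k => by
    rw [← Subtype.coe_inj]
    constructor
    · intro h
      obtain ⟨z, hz, hzk⟩ := exists_divide hF N k.1 h
      exact ⟨⟨z, hz⟩, Subtype.ext (by rw [Submodule.coe_smul, modR_pow_smul]; exact hzk)⟩
    · rintro ⟨k', rfl⟩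
      obtain ⟨z, hz⟩ := k'
      show (π ϖ (N + N) F).app ⊤ (ϖ ^ N • z) = 0
      refine eq_zero_of_locally_eq_zero _ (fun i : {V : X.affineOpens // V.1 ≤ ⊤} => i.2)
        (le_iSup_affine ⊤) _ fun i => ?_
      obtain ⟨y, hy⟩ := (π_eq_zero_iff ϖ F i.1.2 N _).1 (res_π i.2 hz)
      rw [← app_res, modR_pow_smul, res_c, hy, smul_smul, ← pow_add]
      exact π_pow_smul ϖ F (N + N) y
  let D : LinearMap.range ((appLin (R := R) (π ϖ (N + N) E) ⊤).comp (K ϖ N E).subtype) →ₗ[R]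
      LinearMap.range ((appLin (R := R) (π ϖ (N + N) F) ⊤).comp (K ϖ N F).subtype) :=
    (appLin (R := R) δ ⊤).restrict (by
      rintro _ ⟨x, rfl⟩
      obtain ⟨a, ha⟩ := hmap x
      exact ⟨a, ha.symm⟩)
  obtain ⟨_, _⟩ := K_free hϖ hE
  obtain ⟨_, _⟩ := K_free hϖ hF
  have hD : Function.Surjective D := surjective_of_twin hϖ N hrank qE (LinearMap.surjective_rangeRestrict _)
    hkE qF (LinearMap.surjective_rangeRestrict _) hkF D (fun a b h => Subtype.ext (hδinj (congrArg Subtype.val h)))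
  have heK : ϖ ^ N • e ∈ K ϖ N F := by rw [mem_K, modR_pow_smul]; exact π_pow_smul ϖ F N e
  obtain ⟨⟨_, t, rfl⟩, ht⟩ := hD (qF ⟨_, heK⟩)
  have ht' : δ.app ⊤ ((π ϖ (N + N) E).app ⊤ t.1) = (π ϖ (N + N) F).app ⊤ (ϖ ^ N • e) :=
    congrArg Subtype.val ht
  have ht'' : (π ϖ (N + N) E).app ⊤ t.1 =
      c ϖ (⊤ : X.Opens) ^ N • δ'.app ⊤ ((π ϖ (N + N) F).app ⊤ e) := by
    have h := congrArg (δ'.app ⊤) ht'
    rw [modR_pow_smul, Scheme.Modules.Hom.app_smul, Scheme.Modules.Hom.app_smul,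
      ← ConcreteCategory.comp_apply, ← Scheme.Modules.Hom.comp_app, hδ] at h
    exact h
  obtain ⟨s, hs⟩ := exists_lift hE _ t.1 ht''
  refine ⟨s, hs.trans ?_⟩
  rw [← ConcreteCategory.comp_apply (δ'.app ⊤), ← Scheme.Modules.Hom.comp_app, ← tr_down ϖ hN δ',
    Scheme.Modules.Hom.comp_app, ConcreteCategory.comp_apply, π_tr_app, down_down]

end Groth.Agent.FlatMor.GenTrunc
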