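import Groth.Agent.FlatMor.GenTrunc.Core
import Groth.Agent.S0058
import Groth.Agent.S0938
import Groth.Agent.FormalFun.Main

/-!
# Lifting sections from high truncations of free modules
-/

set_option autoImplicit false
set_option linter.style.haveILetI false
set_option linter.unusedSectionVars false

universe u

open CategoryTheory CategoryTheory.Limits AlgebraicGeometry Opposite TopologicalSpace
open Groth.Agent Groth.Agent.QCoh Groth.Agent.Props

noncomputable section

namespace Groth.Agent.FlatMor.GenTrunc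

variable {R : Type u} [CommRing R] (ϖ : R) {X : Scheme.{u}} [X.Over (Spec (CommRingCat.of R))]

attribute [local instance] modR

/-- The map induced on truncations. -/
def mapMod (n : ℕ) {M M' : X.Modules} (φ : M ⟶ M') :
    Formal.modPow (idl ϖ) n M ⟶ Formal.modPow (idl ϖ) n M' :=
  cokernel.desc _ (φ ≫ π ϖ n M') (by
    apply Sigma.hom_ext
    intro b
    rw [comp_zero, Formal.smulFamily, Sigma.ι_desc_assoc]
    exact π_natural_zero ϖ _ b.2)

theorem π_mapMod (n : ℕ) {M M' : X.Modules} (φ : M ⟶ M') :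
    π ϖ n M ≫ mapMod ϖ n φ = φ ≫ π ϖ n M' :=
  cokernel.π_desc _ _ _

theorem tr_mapMod {m n : ℕ} (h : m ≤ n) {M M' : X.Modules} (φ : M ⟶ M') :
    tr ϖ h M ≫ mapMod ϖ m φ = mapMod ϖ n φ ≫ tr ϖ h M' := by
  rw [← cancel_epi (π ϖ n M), reassoc_of% (π_tr ϖ h M), π_mapMod, reassoc_of% (π_mapMod ϖ n φ), π_tr]

/-- Sections of a low truncation of the structure sheaf which come from a high one lift. -/
theorem exists_lift_unit [IsNoetherianRing R] [IsProper (X ↘ Spec (CommRingCat.of R))] (m : ℕ) :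
    ∃ d : ℕ, ∀ y : Γ(Formal.modPow (idl ϖ) (m + d + 1) (Coh.structureModule X), ⊤),
      ∃ a : Γ(Coh.structureModule X, ⊤), (π ϖ (m + 1) _).app ⊤ a =
        (tr ϖ (show m + 1 ≤ m + d + 1 by omega) _).app ⊤ y := by
  obtain ⟨d, hd⟩ := S0058.result R (idl ϖ) X (Coh.structureModule X)
    (ProperFin.isCoh_structureModule X) 0
  refine ⟨d, fun y => ?_⟩
  have e : (Formal.completion (idl ϖ) (Coh.structureModule X)).map (homOfLE (Nat.le_add_right m d)).op =
      tr ϖ (show m + 1 ≤ m + d + 1 by omega) _ := by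
    refine (cancel_epi (π ϖ (m + d + 1) _)).1 ?_
    exact (FormalFun.π_completion_map (idl ϖ) _ (Nat.le_add_right m d)).trans (π_tr ϖ _ _).symm
  obtain ⟨x, hx⟩ := (hd m (m + d) (Nat.le_add_right m d) le_rfl).subset
    ⟨(FormalFun.Γ0 (Formal.modPow (idl ϖ) (m + d + 1) (Coh.structureModule X))).symm y, rfl⟩
  refine ⟨FormalFun.Γ0 _ x, ?_⟩
  have h1 := FormalFun.Γ0_map (π ϖ (m + 1) (Coh.structureModule X)) x
  have h2 := FormalFun.Γ0_map ((Formal.completion (idl ϖ) (Coh.structureModule X)).map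
    (homOfLE (Nat.le_add_right m d)).op)
    ((FormalFun.Γ0 (Formal.modPow (idl ϖ) (m + d + 1) (Coh.structureModule X))).symm y)
  have h3 := congrArg (FormalFun.Γ0 (Formal.modPow (idl ϖ) (m + 1) (Coh.structureModule X))) hx
  rw [← e]
  refine h1.symm.trans (h3.trans (h2.trans ?_))
  exact congrArg _ (AddEquiv.apply_symm_apply _ y)

/-- The same for free modules. -/
theorem exists_lift_free {m n : ℕ} (h : m ≤ n)
    (hu : ∀ y : Γ(Formal.modPow (idl ϖ) n (Coh.structureModule X), ⊤),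
      ∃ a : Γ(Coh.structureModule X, ⊤), (π ϖ m _).app ⊤ a = (tr ϖ h _).app ⊤ y)
    (r : ℕ) (y : Γ(Formal.modPow (idl ϖ) n (FlatMod.freeMod X r), ⊤)) :
    ∃ a : Γ(FlatMod.freeMod X r, ⊤), (π ϖ m _).app ⊤ a = (tr ϖ h _).app ⊤ y := by
  let ι : Fin r → (Coh.structureModule X ⟶ FlatMod.freeMod X r) :=
    fun i => Sigma.ι (fun _ : Fin r => Coh.structureModule X) i
  choose a ha using fun i => hu ((mapMod ϖ n (S0938.proj r i)).app ⊤ y)
  refine ⟨∑ i, (ι i).app ⊤ (a i), ?_⟩
  have hsum : ∑ i, mapMod ϖ m (S0938.proj r i) ≫ mapMod ϖ m (ι i) =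
      𝟙 (Formal.modPow (idl ϖ) m (FlatMod.freeMod X r)) := by
    rw [← cancel_epi (π ϖ m _), Preadditive.comp_sum, Category.comp_id]
    simp only [reassoc_of% (π_mapMod ϖ m (S0938.proj (X := X) r _)), π_mapMod]
    simp only [← Category.assoc, ← Preadditive.sum_comp, ι, S0938.sum_proj, Category.id_comp]
  have key : ∀ i, (π ϖ m _).app ⊤ ((ι i).app ⊤ (a i)) =
      (mapMod ϖ m (S0938.proj r i) ≫ mapMod ϖ m (ι i)).app ⊤ ((tr ϖ h _).app ⊤ y) := fun i => by
    rw [← ConcreteCategory.comp_apply, ← Scheme.Modules.Hom.comp_app, ← π_mapMod,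
      Scheme.Modules.Hom.comp_app, ConcreteCategory.comp_apply, ha,
      ← ConcreteCategory.comp_apply, ← Scheme.Modules.Hom.comp_app,
      ← ConcreteCategory.comp_apply, ← Scheme.Modules.Hom.comp_app,
      ← ConcreteCategory.comp_apply, ← Scheme.Modules.Hom.comp_app, reassoc_of% (tr_mapMod ϖ h (S0938.proj (X := X) r i))]
  rw [map_sum, Finset.sum_congr rfl fun i _ => key i]
  conv_rhs => rw [← Category.comp_id (tr ϖ h (FlatMod.freeMod X r)), ← hsum, Scheme.Modules.Hom.comp_app,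
    ConcreteCategory.comp_apply]
  let Φ : (Formal.modPow (idl ϖ) m (FlatMod.freeMod X r) ⟶ Formal.modPow (idl ϖ) m (FlatMod.freeMod X r)) →+
      Γ(Formal.modPow (idl ϖ) m (FlatMod.freeMod X r), ⊤) :=
    { toFun := fun φ => φ.app ⊤ ((tr ϖ h (FlatMod.freeMod X r)).app ⊤ y), map_zero' := rfl,
      map_add' := fun _ _ => rfl }
  exact (map_sum Φ (fun i => mapMod ϖ m (S0938.proj r i) ≫ mapMod ϖ m (ι i)) Finset.univ).symm

end Groth.Agent.FlatMor.GenTrunc
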