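import Groth.Agent.FlatMor.GenTrunc.Core
import Groth.Agent.FlatMor.GenTrunc.Lift
import Groth.Agent.FormalFun.ClosedCut
import Groth.Agent.FormalFun.HomMonoEpi
import Groth.Agent.KFlat.LocFree
import Groth.Agent.RankLocus.Basic
import Groth.Agent.DEq.LocFreeCx

/-!
# Freeness from the generic fibre and a high truncation
-/

set_option autoImplicit false
set_option linter.style.haveILetI false
set_option linter.unusedSectionVars false

universe u

open CategoryTheory CategoryTheory.Limits AlgebraicGeometry Opposite TopologicalSpace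
open Groth.Agent Groth.Agent.QCoh Groth.Agent.Props

noncomputable section

namespace Groth.Agent.FlatMor.GenTrunc

variable {R : Type u} [CommRing R] (ϖ : R) {X : Scheme.{u}} [X.Over (Spec (CommRingCat.of R))]

attribute [local instance] modR

theorem isFinLocFreeOfRank_freeMod (Y : Scheme.{u}) (n : ℕ) :
    FlatMod.IsFinLocFreeOfRank n (FlatMod.freeMod Y n) := fun _ =>
  ⟨⊤, trivial, ⟨(Scheme.Modules.restrictFunctorIsoPullback _).app _ ≪≫ KFlat.LocFree.pullFreeIso _ n⟩⟩

theorem isFinLocFree_freeMod' (Y : Scheme.{u}) (n : ℕ) :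
    FlatMod.IsFinLocFree (FlatMod.freeMod Y n) := fun x =>
  let ⟨U, hx, e⟩ := isFinLocFreeOfRank_freeMod Y n x
  ⟨U, n, hx, e⟩

theorem fibreRank_eq_of_pullback_iso {Y Z : Scheme.{u}} (i : Z ⟶ Y) (E : Y.Modules) {r : ℕ}
    (e : (Scheme.Modules.pullback i).obj E ≅ FlatMod.freeMod Z r) (z : Z) :
    QRank.fibreRank E (i z) = r := by
  rw [← RankLocus.fibreRank_pullback i E z, DEq.LocFreeCx.fibreRank_iso e z,
    DEq.LocFreeCx.fibreRank_of_ofRank (isFinLocFreeOfRank_freeMod Z r) z]

theorem faithful_pushforward {Y Z : Scheme.{u}} (i : Z ⟶ Y) [IsClosedImmersion i] :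
    (Scheme.Modules.pushforward i).Faithful where
  map_injective {M N φ ψ} h := by
    refine Scheme.Modules.hom_ext _ _ fun W => ?_
    obtain ⟨O, hO, hOW⟩ := i.isClosedEmbedding.isInducing.isOpen_iff.mp W.isOpen
    obtain rfl : i ⁻¹ᵁ ⟨O, hO⟩ = W := TopologicalSpace.Opens.ext hOW
    exact congrArg (fun t => t.app ⟨O, hO⟩) h

theorem exists_iso_unit_fib [IsLocalRing R] {I : Ideal R} (hI : I = IsLocalRing.maximalIdeal R)
    (G : X.Modules) [G.IsQuasicoherent] :
    ∃ ε : Formal.modPow I 1 G ≅ (Scheme.Modules.pushforward (FormalFun.cι R X)).obj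
        ((Scheme.Modules.pullback (FormalFun.cι R X)).obj G),
      Formal.modPowπ I 1 G ≫ ε.hom =
        (Scheme.Modules.pullbackPushforwardAdjunction (FormalFun.cι R X)).unit.app G := by
  subst hI
  exact FormalFun.exists_iso_unit R X G

variable [IsDomain R] [IsDiscreteValuationRing R]

/-- The generic fibre is the locus where the uniformiser is invertible. -/
theorem isOpenImmersion_generic (hϖ : Irreducible ϖ) :
    IsOpenImmersion (Spec.map (CommRingCat.ofHom (algebraMap R (FractionRing R)))) ∧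
      Set.range (Spec.map (CommRingCat.ofHom (algebraMap R (FractionRing R)))) =
        (PrimeSpectrum.basicOpen ϖ : Set (PrimeSpectrum R)) := by
  have hle : Submonoid.powers ϖ ≤ nonZeroDivisors R :=
    Submonoid.powers_le.2 (mem_nonZeroDivisors_of_ne_zero hϖ.ne_zero)
  haveI : IsLocalization.Away ϖ (FractionRing R) :=
    (IsLocalization.iff_of_le_of_exists_dvd _ (nonZeroDivisors R) hle fun n hn => by
      obtain ⟨j, v, rfl⟩ :=
        IsDiscreteValuationRing.eq_unit_mul_pow_irreducible (nonZeroDivisors.ne_zero hn) hϖ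
      exact ⟨_, ⟨j, rfl⟩, v.isUnit.mul_left_dvd.2 dvd_rfl⟩).2 inferInstance
  exact ⟨IsOpenImmersion.of_isLocalization ϖ,
    PrimeSpectrum.localization_away_comap_range (FractionRing R) ϖ⟩

variable {ϖ}

/-- A truncated isomorphism which lifts to global sections gives freeness. -/
theorem exists_iso_of_sections (hϖ : Irreducible ϖ) [IsProper (X ↘ Spec (CommRingCat.of R))]
    {N n : ℕ} (hN : 1 ≤ N) (hn : N ≤ n) {r : ℕ} {E : X.Modules} (hE : FlatMod.IsFinLocFree E)
    (hrk : ∀ x, QRank.fibreRank E x = r)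
    (β : Formal.modPow (idl ϖ) n (FlatMod.freeMod X r) ≅ Formal.modPow (idl ϖ) n E)
    (hs : ∀ e : Γ(FlatMod.freeMod X r, ⊤), ∃ s : Γ(E, ⊤), (π ϖ N E).app ⊤ s =
      (down ϖ hn β.hom).app ⊤ ((π ϖ N (FlatMod.freeMod X r)).app ⊤ e)) :
    Nonempty (E ≅ FlatMod.freeMod X r) := by
  choose s hs using hs
  let F := FlatMod.freeMod X r
  let φ : F ⟶ E := S0938.freeLift E fun i => s (S0938.e r i)
  have hφN : φ ≫ π ϖ N E = π ϖ N F ≫ down ϖ hn β.hom := S0938.free_hom_ext fun i =>
    Eq.trans (congrArg ((π ϖ N E).app ⊤) (S0938.freeLift_e E (fun i => s (S0938.e r i)) i))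
      (hs (S0938.e r i))
  have h1 : φ ≫ π ϖ 1 E = π ϖ 1 F ≫ down ϖ (hN.trans hn) β.hom := by
    rw [← π_tr ϖ hN E, reassoc_of% hφN, ← tr_down, down_down, ← Category.assoc, π_tr]
  have hF : FlatMod.IsFinLocFree F := isFinLocFree_freeMod' X r
  haveI : E.IsQuasicoherent := PerfTri.Betti.isQuasicoherent_of_isFinLocFree hE
  haveI : F.IsQuasicoherent := PerfTri.Betti.isQuasicoherent_of_isFinLocFree hF
  haveI := FormalFun.isClosedImmersion_cι R X
  haveI := faithful_pushforward (FormalFun.cι R X)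
  haveI hd : IsIso (down ϖ (hN.trans hn) β.hom) :=
    ⟨down ϖ (hN.trans hn) β.inv, by rw [down_comp, β.hom_inv_id, down_id],
      by rw [down_comp, β.inv_hom_id, down_id]⟩
  obtain ⟨εF, hεF⟩ := exists_iso_unit_fib (I := idl ϖ) hϖ.maximalIdeal_eq.symm F
  obtain ⟨εE, hεE⟩ := exists_iso_unit_fib (I := idl ϖ) hϖ.maximalIdeal_eq.symm E
  let η := (Scheme.Modules.pullbackPushforwardAdjunction (FormalFun.cι R X)).unit
  have hnat : φ ≫ η.app E = η.app F ≫ (Scheme.Modules.pushforward (FormalFun.cι R X)).map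
      ((Scheme.Modules.pullback (FormalFun.cι R X)).map φ) := η.naturality φ
  have hp : (Scheme.Modules.pushforward (FormalFun.cι R X)).map
      ((Scheme.Modules.pullback (FormalFun.cι R X)).map φ) =
      εF.inv ≫ down ϖ (hN.trans hn) β.hom ≫ εE.hom := by
    rw [Iso.eq_inv_comp, ← cancel_epi (π ϖ 1 F), reassoc_of% hεF, ← hnat, ← hεE, reassoc_of% h1]
  haveI : Epi ((Scheme.Modules.pullback (FormalFun.cι R X)).map φ) := by
    refine (Scheme.Modules.pushforward (FormalFun.cι R X)).epi_of_epi_map ?_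
    rw [hp]
    infer_instance
  haveI := FormalFun.isLocallyNoetherian_of_proper R X
  haveI : Epi φ := FormalFun.epi_of_fib (A := R) (X := X) (PerfTri.Bounded.isCoh_of_isFinLocFree hF) hE φ inferInstance
  haveI : IsIso φ := Omega.Stalks.isIso_of_stalk fun x => by
    obtain ⟨_, _⟩ := EpiLocus.free_stalk_of_isFinLocFree hE x
    obtain ⟨_, _⟩ := EpiLocus.free_stalk_of_isFinLocFree hF x
    have hsurj := PullStalk.Exact.stalk_surjective φ x
    have hr : Module.finrank (X.presheaf.stalk x) (E.presheaf.stalk x) =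
        Module.finrank (X.presheaf.stalk x) (F.presheaf.stalk x) := by
      rw [← QRank.fibreRank_eq_of_free E x, ← QRank.fibreRank_eq_of_free F x, hrk,
        DEq.LocFreeCx.fibreRank_of_ofRank (isFinLocFreeOfRank_freeMod X r) x]
    let e := LinearEquiv.ofFinrankEq _ _ hr
    exact ⟨Function.Injective.of_comp (f := e) (OrzechProperty.injective_of_surjective_endomorphism
      (e.toLinearMap.comp (PullStalk.Exact.stalkLin φ x)) (e.surjective.comp hsurj)), hsurj⟩
  exact ⟨(asIso φ).symm⟩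

/-- Every point specialises into the image of a closed subscheme containing the closed fibre. -/
theorem exists_specializes_closedFibre [IsProper (X ↘ Spec (CommRingCat.of R))] (x : X) :
    ∃ z : X, x ⤳ z ∧ (X ↘ Spec (CommRingCat.of R)) z = IsLocalRing.closedPoint R := by
  let g := X ↘ Spec (CommRingCat.of R)
  obtain ⟨z, hz, hzc⟩ := (IsLocalRing.specializes_closedPoint (g x) : g x ⤳ _).mem_closed
    (g.isClosedMap _ (isClosed_closure (s := ({x} : Set X)))) ⟨x, subset_closure rfl, rfl⟩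
  exact ⟨z, specializes_iff_mem_closure.2 hz, hzc⟩

theorem isCut_of_eq {A : Type u} [CommRing A] {Y Z : Scheme.{u}} [Y.Over (Spec (CommRingCat.of A))]
    (i : Z ⟶ Y) (I J : Ideal A) (hJ : J = I ^ (0 + 1)) {p : Z ⟶ Spec (CommRingCat.of (A ⧸ J))}
    (h : IsPullback i p (Y ↘ Spec (CommRingCat.of A))
      (Spec.map (CommRingCat.ofHom (Ideal.Quotient.mk J)))) : FormalFun.IsCut i J := by
  subst hJ
  exact FormalFun.isCut_of_isPullback i I 0 h

/-- Freeness from the generic fibre and a high truncation. -/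
theorem exists_pow_free (hϖ : Irreducible ϖ) {X : Scheme.{u}} (f : X ⟶ Spec (CommRingCat.of R))
    [IsProper f] [GeometricallyConnected f] :
    ∃ n : ℕ, ∀ (E : X.Modules), FlatMod.IsFinLocFree E →
      (∃ r : ℕ, Nonempty ((Scheme.Modules.pullback (pullback.fst f (Spec.map (CommRingCat.ofHom
        (algebraMap R (FractionRing R)))))).obj E ≅ FlatMod.freeMod _ r)) →
      (∃ r : ℕ, Nonempty ((Scheme.Modules.pullback (pullback.fst f (Spec.map (CommRingCat.ofHom
        (Ideal.Quotient.mk (Ideal.span {ϖ ^ n})))))).obj E ≅ FlatMod.freeMod _ r)) →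
      ∃ r : ℕ, Nonempty (E ≅ FlatMod.freeMod X r) := by
  letI : X.Over (Spec (CommRingCat.of R)) := ⟨f⟩
  haveI : IsProper (X ↘ Spec (CommRingCat.of R)) := ‹IsProper f›
  haveI := FormalFun.isLocallyNoetherian_of_proper R X
  haveI := FormalFun.compactSpace_of_proper R X
  haveI : IsNoetherian X := {}
  obtain ⟨N₀, hN₀⟩ := exists_TB ϖ _ (ProperFin.isCoh_structureModule X)
  let N := N₀ + 1
  have hTB : TB ϖ N (Coh.structureModule X) := hN₀.mono (Nat.le_succ _)
  let m := N + N₀
  obtain ⟨d, hd⟩ := exists_lift_unit ϖ (X := X) m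
  refine ⟨m + d + 1, fun E hE hgen htr => ?_⟩
  obtain ⟨r₀, ⟨eK⟩⟩ := hgen
  obtain ⟨r, ⟨en⟩⟩ := htr
  set n := m + d + 1 with hn
  have hn2 : N + N ≤ n := by omega
  let gK := Spec.map (CommRingCat.ofHom (algebraMap R (FractionRing R)))
  let gn := Spec.map (CommRingCat.ofHom (Ideal.Quotient.mk (Ideal.span {ϖ ^ n})))
  let j := pullback.fst f gK
  let i := pullback.fst f gn
  haveI : IsClosedImmersion gn := IsClosedImmersion.spec_of_surjective _ Ideal.Quotient.mk_surjective
  haveI : IsClosedImmersion i := inferInstanceAs (IsClosedImmersion (pullback.fst f gn))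
  -- the rank
  have hrk : ∀ x, QRank.fibreRank E x = r := fun x => by
    obtain ⟨z, hxz, hz⟩ := exists_specializes_closedFibre (R := R) x
    have hzi : z ∈ Set.range i := by
      rw [show Set.range i = f ⁻¹' Set.range gn from Scheme.Pullback.range_fst ..]
      show f z ∈ Set.range gn
      have hrange : Set.range gn = PrimeSpectrum.zeroLocus (Ideal.span {ϖ ^ n} : Set R) := by
        refine (range_comap_of_surjective _ _ Ideal.Quotient.mk_surjective).trans ?_
        rw [Ideal.mk_ker]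
      rw [hrange, show f z = IsLocalRing.closedPoint R from hz]
      refine (Ideal.span_le.2 ?_ : Ideal.span {ϖ ^ n} ≤ IsLocalRing.maximalIdeal R)
      rw [Set.singleton_subset_iff]
      exact Ideal.pow_mem_of_mem _ hϖ.not_isUnit n (Nat.succ_pos _)
    obtain ⟨t, rfl⟩ := hzi
    obtain ⟨U, hU, hUc⟩ : ∃ U : Set X, IsOpen U ∧ i t ∈ U ∧ ∀ y ∈ U, QRank.fibreRank E y = r := by
      haveI := PerfTri.Betti.isQuasicoherent_of_isFinLocFree hE
      have hlc := QRank.isLocallyConstant_fibreRank E hE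
      exact ⟨_, hlc.isOpen_fiber r, fibreRank_eq_of_pullback_iso i E en t, fun y hy => hy⟩
    exact hUc.2 x (hxz.mem_open hU hUc.1)
  obtain ⟨hKopen, hKrange⟩ := isOpenImmersion_generic ϖ hϖ
  haveI : IsOpenImmersion gK := hKopen
  haveI : ConnectedSpace ↑(pullback f gK) :=
    GeometricallyConnected.geometrically_connectedSpace gK _ _ (IsPullback.of_hasPullback f gK)
  obtain rfl : r₀ = r := by
    obtain ⟨y⟩ : Nonempty ↑(pullback f gK) := inferInstance
    exact (fibreRank_eq_of_pullback_iso j E eK y).symm.trans (hrk _)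
  let F := FlatMod.freeMod X r₀
  have hF : FlatMod.IsFinLocFree F := isFinLocFree_freeMod' X r₀
  haveI : E.IsQuasicoherent := PerfTri.Betti.isQuasicoherent_of_isFinLocFree hE
  haveI : F.IsQuasicoherent := PerfTri.Betti.isQuasicoherent_of_isFinLocFree hF
  haveI := FormalFun.isQuasicoherent_modPow (idl ϖ) (M := E) inferInstance (N + N)
  haveI := finite_top (R := R) E (PerfTri.Bounded.isCoh_of_isFinLocFree hE)
  haveI := finite_top (R := R) F (PerfTri.Bounded.isCoh_of_isFinLocFree hF)
  -- the truncated isomorphism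
  have hcut : FormalFun.IsCut i (idl ϖ ^ n) := by
    rw [Ideal.span_singleton_pow]
    exact isCut_of_eq i _ _ (pow_one _).symm (IsPullback.of_hasPullback f gn)
  obtain ⟨θF, -⟩ := hcut.exists_iso_unit F
  obtain ⟨θE, -⟩ := hcut.exists_iso_unit E
  let β : Formal.modPow (idl ϖ) n F ≅ Formal.modPow (idl ϖ) n E :=
    θF ≪≫ (Scheme.Modules.pushforward i).mapIso (KFlat.LocFree.pullFreeIso i r₀ ≪≫ en.symm) ≪≫ θE.symm
  -- the generic comparison
  let W : X.Opens := j ''ᵁ ⊤
  have hW : W = X.basicOpen (c ϖ (⊤ : X.Opens)) := by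
    refine SetLike.coe_injective ?_
    show j '' Set.univ = _
    rw [Set.image_univ, show Set.range j = f ⁻¹' Set.range gK from Scheme.Pullback.range_fst .., hKrange]
    rw [show c ϖ (⊤ : X.Opens) = Coh.toGlobal (X ↘ Spec (CommRingCat.of R)) ϖ from
      congr($(X.presheaf.map_id (op ⊤)) _)]
    show _ = ((X.basicOpen (f.appTop ((Scheme.ΓSpecIso (CommRingCat.of R)).inv ϖ))) : Set X)
    rw [← Scheme.preimage_basicOpen_top, Scheme.Hom.coe_preimage, basicOpen_eq_of_affine]
    rfl
  let α : F.restrict j ≅ E.restrict j :=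
    (Scheme.Modules.restrictFunctorIsoPullback j).app F ≪≫ KFlat.LocFree.pullFreeIso j r₀ ≪≫ eK.symm ≪≫
      ((Scheme.Modules.restrictFunctorIsoPullback j).app E).symm
  have lin : ∀ {A B : X.Modules} (γ : A.restrict j ⟶ B.restrict j) (a : R) (x : Γ(A, W)),
      (show Γ(B, W) from γ.app ⊤ (show Γ(A.restrict j, ⊤) from a • x)) =
        a • (show Γ(B, W) from γ.app ⊤ (show Γ(A.restrict j, ⊤) from x)) := fun {A B} γ a x => by
    have hb : (j.appIso ⊤).inv ((j.appIso ⊤).hom (FormalFun.gA (A := R) W a)) = FormalFun.gA (A := R) W a :=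
      congr($((j.appIso ⊤).hom_inv_id) _)
    have h := Scheme.Modules.Hom.app_smul γ ((j.appIso ⊤).hom (FormalFun.gA (A := R) W a))
      (show Γ(A.restrict j, ⊤) from x)
    change γ.app ⊤ ((j.appIso ⊤).inv ((j.appIso ⊤).hom (FormalFun.gA (A := R) W a)) • x) =
      (j.appIso ⊤).inv ((j.appIso ⊤).hom (FormalFun.gA (A := R) W a)) • (show Γ(B, W) from γ.app ⊤ x) at h
    rw [hb] at h
    exact h
  let ψ : Γ(F, W) ≃ₗ[R] Γ(E, W) :=
    { toFun := fun x => (α.hom.app ⊤).hom x
      invFun := fun x => (α.inv.app ⊤).hom x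
      map_add' := fun x y => (α.hom.app ⊤).hom.map_add x y
      map_smul' := lin α.hom
      left_inv := fun x => congr($(α.hom_inv_id).app ⊤ x)
      right_inv := fun x => congr($(α.inv_hom_id).app ⊤ x) }
  have hTE : TB ϖ N E := hTB.of_finLocFree hE
  have hTF : TB ϖ N F := hTB.of_finLocFree hF
  have hrank : Module.finrank R (K ϖ N E) = Module.finrank R (K ϖ N F) :=
    le_antisymm (finrank_K_le hϖ hTF hTE W hW ψ.symm.toLinearMap ψ.symm.injective)
      (finrank_K_le hϖ hTE hTF W hW ψ.toLinearMap ψ.injective)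
  refine ⟨r₀, exists_iso_of_sections hϖ (Nat.le_add_left 1 N₀) _ hE hrk β
    (exists_sections hϖ hn2 hTE hTF β (exists_lift_free ϖ hn2 hd r₀) hrank)⟩

end Groth.Agent.FlatMor.GenTrunc
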