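import Groth.Agent.FormalFun.Powers
import Groth.Agent.FormalFun.Main
import Groth.Agent.FormalFun.Finite
import Groth.Agent.FormalFun.Connected
import Groth.Agent.QCoh.Qcqs
import Groth.Agent.QCoh.Exact
import Groth.Agent.LFFrame.Basic
import Groth.Agent.VBLib.Basic

/-!
# Sections of a module modulo powers of an element of the base
-/

set_option autoImplicit false
set_option linter.style.haveILetI false
set_option linter.unusedSectionVars false

universe u

open CategoryTheory CategoryTheory.Limits AlgebraicGeometry Opposite TopologicalSpace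
open Groth.Agent Groth.Agent.QCoh

noncomputable section

namespace Groth.Agent.FlatMor.GenTrunc

variable {R : Type u} [CommRing R] (ϖ : R) {X : Scheme.{u}} [X.Over (Spec (CommRingCat.of R))]

/-- The ideal generated by the element. -/
abbrev idl : Ideal R := Ideal.span {ϖ}

/-- The element as a function on an open. -/
abbrev c (U : X.Opens) : Γ(X, U) := FormalFun.gA (A := R) U ϖ

theorem rres_gA {U V : X.Opens} (h : V ≤ U) (a : R) :
    rres h (FormalFun.gA (A := R) U a) = FormalFun.gA (A := R) V a :=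
  rres_rres le_top h (Coh.toGlobal (X ↘ Spec (CommRingCat.of R)) a)

/-- Reduction modulo a power. -/
abbrev π (n : ℕ) (M : X.Modules) : M ⟶ Formal.modPow (idl ϖ) n M := Formal.modPowπ (idl ϖ) n M

instance epi_π (n : ℕ) (M : X.Modules) : Epi (π ϖ n M) := inferInstanceAs (Epi (cokernel.π _))

theorem pow_span (n : ℕ) : idl ϖ ^ n = Ideal.span (Set.range fun _ : PUnit.{u + 1} => ϖ ^ n) := by
  rw [Ideal.span_singleton_pow, Set.range_const]

theorem π_pow_smul (M : X.Modules) {U : X.Opens} (n : ℕ) (y : Γ(M, U)) :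
    (π ϖ n M).app U (c ϖ U ^ n • y) = 0 := by
  rw [← map_pow, ← FormalFun.smulMod_app, ← ConcreteCategory.comp_apply,
    ← Scheme.Modules.Hom.comp_app, show Formal.smulMod R M (ϖ ^ n) ≫ π ϖ n M = 0 from
      FormalFun.smulMod_comp_π M (Ideal.pow_mem_pow (Ideal.mem_span_singleton_self ϖ) n)]
  rfl

theorem π_eq_zero_iff (M : X.Modules) [M.IsQuasicoherent] {U : X.Opens} (hU : IsAffineOpen U)
    (n : ℕ) (x : Γ(M, U)) :
    (π ϖ n M).app U x = 0 ↔ ∃ y, x = c ϖ U ^ n • y := by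
  constructor
  · intro h
    obtain ⟨y, hy⟩ := (FormalFun.ker_iff (fun _ : PUnit.{u + 1} => ϖ ^ n) M (pow_span ϖ n) hU x).1 h
    refine ⟨y PUnit.unit, ?_⟩
    simpa [FormalFun.smulMod_app, map_pow] using hy
  · rintro ⟨y, rfl⟩
    exact π_pow_smul ϖ M n y

/-- Transition maps between the reductions. -/
def tr {m n : ℕ} (h : m ≤ n) (M : X.Modules) : Formal.modPow (idl ϖ) n M ⟶ Formal.modPow (idl ϖ) m M :=
  cokernel.desc _ (π ϖ m M) (Formal.smulFamily_π_of_le (Ideal.pow_le_pow_right h) M)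

theorem π_tr {m n : ℕ} (h : m ≤ n) (M : X.Modules) : π ϖ n M ≫ tr ϖ h M = π ϖ m M :=
  cokernel.π_desc _ _ _

theorem π_tr_app {m n : ℕ} (h : m ≤ n) (M : X.Modules) (U : X.Opens) (x : Γ(M, U)) :
    (tr ϖ h M).app U ((π ϖ n M).app U x) = (π ϖ m M).app U x := by
  rw [← ConcreteCategory.comp_apply, ← Scheme.Modules.Hom.comp_app, π_tr]

/-- The torsion is killed by a fixed power. -/
def TB (N : ℕ) (M : X.Modules) : Prop :=
  ∀ (U : X.Opens) (m : ℕ) (y : Γ(M, U)), c ϖ U ^ m • y = 0 → c ϖ U ^ N • y = 0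

variable {ϖ}

theorem TB.mono {N N' : ℕ} {M : X.Modules} (h : TB ϖ N M) (hN : N ≤ N') : TB ϖ N' M :=
  fun U m y hy => by rw [← Nat.sub_add_cancel hN, pow_add, mul_smul, h U m y hy, smul_zero]

theorem res_c {M : X.Modules} {U V : X.Opens} (h : V ≤ U) (n : ℕ) (y : Γ(M, U)) :
    res M h (c ϖ U ^ n • y) = c ϖ V ^ n • res M h y := by
  rw [res_smul, map_pow, rres_gA]

theorem res_π {M : X.Modules} {U V : X.Opens} (h : V ≤ U) {n : ℕ} {y : Γ(M, U)}
    (hy : (π ϖ n M).app U y = 0) : (π ϖ n M).app V (res M h y) = 0 := by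
  rw [app_res, hy, map_zero]

/-- An open is covered by the affine opens inside it. -/
theorem le_iSup_affine (U : X.Opens) :
    U ≤ ⨆ i : {V : X.affineOpens // V.1 ≤ U}, i.1.1 := fun x hx => by
  obtain ⟨W, hW, hxW, hle⟩ := exists_isAffineOpen_mem_and_subset (x := x) (U := U) hx
  exact Opens.mem_iSup.2 ⟨⟨⟨W, hW⟩, hle⟩, hxW⟩

/-- Divisible sections killed by a power vanish. -/
theorem eq_zero_of_π {N : ℕ} {M : X.Modules} [M.IsQuasicoherent] (hTB : TB ϖ N M) {U : X.Opens}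
    (x : Γ(M, U)) (h : (π ϖ N M).app U x = 0) (m : ℕ) (hm : c ϖ U ^ m • x = 0) : x = 0 := by
  refine eq_zero_of_locally_eq_zero M (fun i : {V : X.affineOpens // V.1 ≤ U} => i.2)
    (le_iSup_affine U) x fun i => ?_
  obtain ⟨y, hy⟩ := (π_eq_zero_iff ϖ M i.1.2 N _).1 (res_π i.2 h)
  have h0 := congr(res M i.2 $hm)
  rw [map_zero, res_c, hy, smul_smul, ← pow_add] at h0
  rw [hy]
  exact hTB _ _ y h0

theorem π_eq_zero_of_locally {N : ℕ} {M : X.Modules} {U : X.Opens} (x : Γ(M, U))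
    (h : ∀ V : X.affineOpens, ∀ hV : V.1 ≤ U, (π ϖ N M).app V.1 (res M hV x) = 0) :
    (π ϖ N M).app U x = 0 :=
  eq_zero_of_locally_eq_zero _ (fun i : {V : X.affineOpens // V.1 ≤ U} => i.2)
    (le_iSup_affine U) _ fun i => by rw [← app_res]; exact h i.1 i.2

/-- Division of highly divisible sections. -/
theorem exists_divide {N : ℕ} {M : X.Modules} [M.IsQuasicoherent] (hTB : TB ϖ N M) (j : ℕ)
    (x : Γ(M, ⊤)) (h : (π ϖ (N + j) M).app ⊤ x = 0) :
    ∃ z : Γ(M, ⊤), (π ϖ N M).app ⊤ z = 0 ∧ c ϖ (⊤ : X.Opens) ^ j • z = x := by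
  have hloc : ∀ V : X.affineOpens, ∃ z : Γ(M, V.1), (π ϖ N M).app V.1 z = 0 ∧
      c ϖ V.1 ^ j • z = res M le_top x := fun V => by
    obtain ⟨y, hy⟩ := (π_eq_zero_iff ϖ M V.2 (N + j) _).1 (res_π (le_top : V.1 ≤ ⊤) h)
    exact ⟨c ϖ V.1 ^ N • y, π_pow_smul ϖ M N y, by rw [smul_smul, ← pow_add, add_comm j, hy]⟩
  choose z hz hzx using hloc
  have hcov : (⊤ : X.Opens) ≤ ⨆ V : X.affineOpens, V.1 := fun p _ => by
    obtain ⟨W, hW, hxW, -⟩ := exists_isAffineOpen_mem_and_subset (x := p) (U := ⊤) trivial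
    exact Opens.mem_iSup.2 ⟨⟨W, hW⟩, hxW⟩
  obtain ⟨s, hs⟩ := exists_glue M (fun V : X.affineOpens => (le_top : V.1 ≤ ⊤)) hcov z fun V W =>
    sub_eq_zero.1 (eq_zero_of_π hTB _
      (by rw [map_sub, res_π _ (hz V), res_π _ (hz W), sub_zero]) j
      (by rw [smul_sub, ← res_c, ← res_c, hzx, hzx, res_res, res_res, sub_self]))
  refine ⟨s, π_eq_zero_of_locally s fun V hV => ?_, eq_of_locally_eq M
    (fun V : X.affineOpens => (le_top : V.1 ≤ ⊤)) hcov _ _ fun V => by rw [res_c, hs, hzx]⟩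
  rw [show res M hV s = z V from hs V]
  exact hz V

/-- Lifting a section from a high truncation. -/
theorem exists_lift {N : ℕ} {M : X.Modules} [M.IsQuasicoherent]
    [(Formal.modPow (idl ϖ) (N + N) M).IsQuasicoherent] (hTB : TB ϖ N M)
    (e : Γ(Formal.modPow (idl ϖ) (N + N) M, ⊤)) (t : Γ(M, ⊤))
    (ht : (π ϖ (N + N) M).app ⊤ t = c ϖ (⊤ : X.Opens) ^ N • e) :
    ∃ s : Γ(M, ⊤), (π ϖ N M).app ⊤ s = (tr ϖ (Nat.le_add_left N N) M).app ⊤ e := by
  let hle : N ≤ N + N := Nat.le_add_left N N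
  have hloc : ∀ V : X.affineOpens, ∃ z : Γ(M, V.1),
      (π ϖ N M).app V.1 z = (tr ϖ hle M).app V.1 (res _ le_top e) ∧
      c ϖ V.1 ^ N • z = res M le_top t := fun V => by
    obtain ⟨a, ha⟩ := app_surjective_of_epi (π ϖ (N + N) M) V.2 (res _ le_top e)
    obtain ⟨b, hb⟩ := (π_eq_zero_iff ϖ M V.2 (N + N) (res M le_top t - c ϖ V.1 ^ N • a)).1 (by
      rw [map_sub, Scheme.Modules.Hom.app_smul, ha, app_res, ht, res_c, sub_self])
    refine ⟨a + c ϖ V.1 ^ N • b, ?_, ?_⟩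
    · rw [map_add, π_pow_smul, add_zero, ← π_tr_app ϖ hle, ha]
    · rw [smul_add, smul_smul, ← pow_add, ← hb]
      abel
  choose z hz hzt using hloc
  have hcov : (⊤ : X.Opens) ≤ ⨆ V : X.affineOpens, V.1 := fun p _ => by
    obtain ⟨W, hW, hxW, -⟩ := exists_isAffineOpen_mem_and_subset (x := p) (U := ⊤) trivial
    exact Opens.mem_iSup.2 ⟨⟨W, hW⟩, hxW⟩
  obtain ⟨s, hs⟩ := exists_glue M (fun V : X.affineOpens => (le_top : V.1 ≤ ⊤)) hcov z fun V W =>
    sub_eq_zero.1 (eq_zero_of_π hTB _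
      (by rw [map_sub, app_res, app_res, hz, hz, ← app_res, ← app_res, res_res, res_res, sub_self]) N
      (by rw [smul_sub, ← res_c, ← res_c, hzt, hzt, res_res, res_res, sub_self]))
  refine ⟨s, eq_of_locally_eq _ (fun V : X.affineOpens => (le_top : V.1 ≤ ⊤)) hcov _ _ fun V => ?_⟩
  rw [← app_res, ← app_res, hs, hz]

variable (ϖ)

/-- A coherent module on a Noetherian scheme has bounded torsion. -/
theorem exists_TB [IsNoetherian X] (M : X.Modules) (hM : Coh.IsCoh M) : ∃ N, TB ϖ N M := by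
  classical
  haveI := hM.1
  haveI := hM.2
  obtain ⟨s, hs, e⟩ := isCompact_iff_finite_and_eq_biUnion_affineOpens.mp
    (show IsCompact ((⊤ : X.Opens) : Set X) from by simpa using isCompact_univ)
  haveI := hs.to_subtype
  have hb : ∀ i : s, ∃ N, ∀ (m : ℕ) (y : Γ(M, i.1.1)), c ϖ i.1.1 ^ m • y = 0 →
      c ϖ i.1.1 ^ N • y = 0 := fun i => by
    haveI := QCoh.finite_sections_of_isFiniteType M i.1.2
    haveI : IsNoetherianRing Γ(X, i.1.1) := IsLocallyNoetherian.component_noetherian i.1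
    let t : ℕ →o Submodule Γ(X, i.1.1) Γ(M, i.1.1) :=
      { toFun := fun m => LinearMap.ker ((c ϖ i.1.1 ^ m) • (LinearMap.id : Γ(M, i.1.1) →ₗ[Γ(X, i.1.1)] _))
        monotone' := fun a b hab y hy => by
          simp only [LinearMap.mem_ker, LinearMap.smul_apply, LinearMap.id_apply] at hy ⊢
          rw [← Nat.sub_add_cancel hab, pow_add, mul_smul, hy, smul_zero] }
    obtain ⟨N, hN⟩ := monotone_stabilizes_iff_noetherian.2 inferInstance t
    refine ⟨N, fun m y hy => ?_⟩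
    have h1 : y ∈ t (max m N) := t.monotone (le_max_left m N) (show y ∈ t m from hy)
    rw [← hN _ (le_max_right m N)] at h1
    exact h1
  choose N hN using hb
  obtain ⟨B, hB⟩ := Finite.exists_le N
  refine ⟨B, fun U m y hy => eq_zero_of_locally_eq_zero M
    (fun p : {p : s × X.affineOpens // p.2.1 ≤ p.1.1.1 ⊓ U ∧ ∃ g, p.2.1 = X.basicOpen (U := p.1.1.1) g} =>
      p.2.1.trans inf_le_right) (fun x hx => ?_) _ fun p => ?_⟩
  · obtain ⟨i, hi⟩ : ∃ i : s, x ∈ i.1.1 := by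
      have : x ∈ (⊤ : X.Opens) := trivial
      rw [e] at this
      simpa only [Opens.mem_iSup, exists_prop, Subtype.exists] using this
    obtain ⟨g, hg, hxg⟩ := i.1.2.exists_basicOpen_le (V := i.1.1 ⊓ U) ⟨x, hi, hx⟩ hi
    exact Opens.mem_iSup.2 ⟨⟨(i, ⟨_, i.1.2.basicOpen g⟩), hg, g, rfl⟩, hxg⟩
  · obtain ⟨⟨i, W⟩, hWle, g, hg⟩ := p
    have key : ∀ (hgU : X.basicOpen g ≤ U), res M hgU (c ϖ U ^ B • y) = 0 := fun hgU => by
      have L := QCoh.isLocalizingAt_of_isCompact M i.1.2.isCompact g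
      obtain ⟨a, y₀, hy₀⟩ := L.surj (res M hgU y)
      obtain ⟨b, hb⟩ := L.eq_zero (c ϖ i.1.1 ^ m • y₀) (by
        rw [res_c, hy₀, smul_comm, ← res_c, hy, map_zero, smul_zero])
      rw [smul_comm] at hb
      have h2 : g ^ b • c ϖ i.1.1 ^ B • y₀ = 0 := by
        rw [smul_comm, ← Nat.sub_add_cancel (hB i), pow_add, mul_smul, hN i m _ hb, smul_zero]
      have h3 := congr(res M (X.basicOpen_le g) $h2)
      rw [map_zero, res_smul, res_c, hy₀, map_pow, smul_comm (c ϖ (X.basicOpen g) ^ B), smul_smul,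
        ← pow_add] at h3
      rw [res_c]
      have u : IsUnit (rres (X.basicOpen_le g) g) := RingedSpace.isUnit_res_basicOpen X.toRingedSpace g
      exact (u.pow (b + a)).smul_eq_zero.1 h3
    have aux : ∀ (W' : X.Opens) (h : W' ≤ U), W' = X.basicOpen g → res M h (c ϖ U ^ B • y) = 0 := by
      rintro W' h rfl
      exact key h
    exact aux _ _ hg

variable {ϖ}

/-- Finite locally free modules inherit the torsion bound of the structure sheaf. -/
theorem TB.of_finLocFree {N : ℕ} (h : TB ϖ N (Coh.structureModule X)) {M : X.Modules}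
    (hM : FlatMod.IsFinLocFree M) : TB ϖ N M := by
  intro U m y hy
  choose V n hxV hφ using hM
  refine eq_zero_of_locally_eq_zero M (U := fun x => U ⊓ V x) (fun x => inf_le_left)
    (fun x hx => Opens.mem_iSup.2 ⟨x, hx, hxV x⟩) _ fun x => ?_
  obtain ⟨e, he⟩ := VBLib.exists_isFrame_of_iso (hφ x).some
  obtain ⟨a, ha⟩ := (he (U ⊓ V x) inf_le_right).2 (res M inf_le_left y)
  have h0 := congr(res M (inf_le_left : U ⊓ V x ≤ U) $hy)
  rw [res_c, map_zero, ← ha] at h0
  rw [res_c, ← ha]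
  have hlin : ∀ k : ℕ, c ϖ (U ⊓ V x) ^ k • LFFrame.comb M e inf_le_right a =
      LFFrame.comb M e inf_le_right (c ϖ (U ⊓ V x) ^ k • a) := fun k => by
    simp [LFFrame.comb, Finset.smul_sum, smul_smul]
  rw [hlin] at h0 ⊢
  have h00 : LFFrame.comb M e inf_le_right (0 : Fin (n x) → Γ(X, U ⊓ V x)) = 0 := by
    simp [LFFrame.comb]
  rw [← h00] at h0
  have h1 := (he _ inf_le_right).1 h0
  refine Eq.trans (congrArg _ (funext fun i => ?_)) h00
  exact h (U ⊓ V x) m (show Γ(Coh.structureModule X, U ⊓ V x) from a i) (congrFun h1 i)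

end Groth.Agent.FlatMor.GenTrunc
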